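import Mathlib
import Cfsg.Agent.Lib.Helper22.Iso.Defs
import Cfsg.Agent.Lib.Helper55.Cores

/-!
# ISO (S3044 + S3045), package PkgAbsB: the nilpotent case

`X` nilpotent with the abstract facts `AFacts`: `Tb = ⊤`, `X` is a `t`-group for a prime
`t ≠ p`, of class at most 2.
-/

set_option autoImplicit false

namespace Cfsg.Agent.Lib.Helper67.Iso

open Cfsg.Agent.Lib.Helper22.Iso
open scoped commutatorElement Pointwise

universe u

variable {X Γ : Type u} [Group X] [Group Γ]

/-- the key fact for characteristic subgroups. -/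
theorem char_key {p : ℕ} {σ : Γ →* MulAut X} {Sg Qg Lg : Subgroup Γ} {Lb Tb : Subgroup X}
    (hA : AFacts p σ Sg Qg Lg Lb Tb) (N : Subgroup X) (hN : N.Characteristic) (hne : N ≠ ⊤) :
    N ≤ Subgroup.center X ∧ N ≤ Lb := by
  refine hA.key N (Subgroup.normal_of_characteristic N) (fun l _ x hx => ?_) hne
  have h := Subgroup.characteristic_iff_map_eq.mp hN (σ l)
  rw [← h]
  exact Subgroup.mem_map_of_mem _ hx

theorem pkgAbsB : PkgAbsB.{u} := by
  intro X Γ _ _ _ _ p hp σ Sg Qg Lg Lb Tb hnil hA
  classical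
  -- `X` is nontrivial
  have hnt : Nontrivial X := by
    by_contra h
    rw [not_nontrivial_iff_subsingleton] at h
    apply hA.Lne
    ext x
    simp [Subsingleton.elim x 1]
  -- (a) `p ∤ |X|`
  have hpX : ¬ p ∣ Nat.card X := by
    intro hdvd
    obtain ⟨P⟩ : Nonempty (Sylow p X) := inferInstance
    have hPn : (P : Subgroup X).Normal := inferInstance
    have hPle : (P : Subgroup X) ≤ Cfsg.pCore p X :=
      Cfsg.Agent.Lib.Helper55.le_pCore hPn P.isPGroup'
    rw [hA.pcore] at hPle
    have hPbot : (P : Subgroup X) = ⊥ := le_bot_iff.mp hPle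
    have hcard : Nat.card (P : Subgroup X) = p ^ (Nat.card X).factorization p :=
      P.card_eq_multiplicity
    rw [hPbot, Subgroup.card_bot] at hcard
    have hpos : 0 < (Nat.card X).factorization p :=
      Nat.Prime.factorization_pos_of_dvd hp.out Nat.card_pos.ne' hdvd
    have h1 : 1 < p ^ (Nat.card X).factorization p := Nat.one_lt_pow hpos.ne' hp.out.one_lt
    exact (ne_of_lt h1) hcard
  -- (b) the commutator subgroup is central and inside `Lb`
  have hcomm_ne : commutator X ≠ ⊤ := (Group.IsSolvable.commutator_lt_top_of_nontrivial X).ne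
  obtain ⟨hcZ, hcL⟩ := char_key hA (commutator X) inferInstance hcomm_ne
  have hcomm_mem : ∀ x y : X, ⁅x, y⁆ ∈ commutator X := fun x y =>
    Subgroup.commutator_mem_commutator (Subgroup.mem_top x) (Subgroup.mem_top y)
  have hclass : Group.nilpotencyClass X ≤ 2 := by
    rw [← Subgroup.upperCentralSeries_eq_top_iff_nilpotencyClass_le, eq_top_iff]
    intro x _
    show x ∈ Subgroup.upperCentralSeries X (1 + 1)
    rw [Subgroup.mem_upperCentralSeries_succ_iff]
    intro y
    rw [Subgroup.upperCentralSeries_one]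
    exact hcZ (hcomm_mem x y)
  -- `Lb` is normal, hence central
  have hLb_normal : Lb.Normal := by
    constructor
    intro x hx g
    have e : g * x * g⁻¹ = ⁅g, x⁆ * x := by simp [commutatorElement_def]
    rw [e]
    exact Lb.mul_mem (hcL (hcomm_mem g x)) hx
  have hLbZ : Lb ≤ Subgroup.center X := (hA.key Lb hLb_normal hA.Linv hA.Lne).1
  -- (c) `X` is a `t`-group
  have ht : ∃ t : ℕ, t.Prime ∧ t ≠ p ∧ IsPGroup t X := by
    by_contra hno
    have hall : ∀ (t : ℕ) [Fact t.Prime] (P : Sylow t X), (P : Subgroup X) ≤ Lb := by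
      intro t ht P
      have hPn : (P : Subgroup X).Normal := inferInstance
      have : Subsingleton (Sylow t X) := (Sylow.unique_of_normal P hPn).instSubsingleton
      have hPc : (P : Subgroup X).Characteristic := inferInstance
      have hPne : (P : Subgroup X) ≠ ⊤ := by
        intro htop
        apply hno
        refine ⟨t, ht.out, ?_, ?_⟩
        · intro htp
          subst htp
          have hPle : (P : Subgroup X) ≤ Cfsg.pCore t X :=
            Cfsg.Agent.Lib.Helper55.le_pCore hPn P.isPGroup'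
          rw [hA.pcore, htop] at hPle
          obtain ⟨a, b, hab⟩ := exists_pair_ne X
          have ha : a = 1 := Subgroup.mem_bot.mp (hPle (Subgroup.mem_top a))
          have hb : b = 1 := Subgroup.mem_bot.mp (hPle (Subgroup.mem_top b))
          exact hab (ha.trans hb.symm)
        · intro g
          obtain ⟨k, hk⟩ := P.isPGroup' ⟨g, by rw [htop]; exact Subgroup.mem_top g⟩
          refine ⟨k, ?_⟩
          have := congrArg Subtype.val hk
          simpa using this
      exact (char_key hA _ hPc hPne).2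
    apply hA.Lne
    apply Subgroup.eq_top_of_card_eq
    apply Nat.dvd_antisymm (Subgroup.card_subgroup_dvd_card Lb)
    rw [← Nat.factorization_le_iff_dvd Nat.card_pos.ne' Nat.card_pos.ne']
    intro t
    by_cases htp : t.Prime
    · have : Fact t.Prime := ⟨htp⟩
      obtain ⟨P⟩ : Nonempty (Sylow t X) := inferInstance
      have h1 : Nat.card (P : Subgroup X) ∣ Nat.card Lb := Subgroup.card_dvd_of_le (hall t P)
      rw [P.card_eq_multiplicity] at h1
      exact (htp.pow_dvd_iff_le_factorization Nat.card_pos.ne').mp h1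
    · rw [Nat.factorization_eq_zero_of_not_prime _ htp]
      exact Nat.zero_le _
  -- (d) the subgroup `V` generated by the `[x, q]`
  set V : Subgroup X := Subgroup.closure {c : X | ∃ x : X, ∃ q ∈ Qg, c = x * (σ q x)⁻¹} with hV
  have hVnormal : V.Normal := by
    have hconj : ∀ y : X, V ≤ V.comap (MulAut.conj y).toMonoidHom := by
      intro y
      rw [hV, Subgroup.closure_le]
      rintro c ⟨x, q, hq, rfl⟩
      rw [SetLike.mem_coe, Subgroup.mem_comap]
      show y * (x * (σ q x)⁻¹) * y⁻¹ ∈ Subgroup.closure _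
      have e : y * (x * (σ q x)⁻¹) * y⁻¹
          = (y * x * (σ q (y * x))⁻¹) * (y * (σ q y)⁻¹)⁻¹ := by
        rw [map_mul]; group
      rw [e]
      exact Subgroup.mul_mem _ (Subgroup.subset_closure ⟨y * x, q, hq, rfl⟩)
        (Subgroup.inv_mem _ (Subgroup.subset_closure ⟨y, q, hq, rfl⟩))
    exact ⟨fun n hn g => hconj g hn⟩
  have hVinv : ∀ l ∈ Lg, ∀ x ∈ V, σ l x ∈ V := by
    intro l hl
    have hle : V ≤ V.comap (σ l).toMonoidHom := by
      rw [hV, Subgroup.closure_le]
      rintro c ⟨x, q, hq, rfl⟩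
      rw [SetLike.mem_coe, Subgroup.mem_comap]
      show σ l (x * (σ q x)⁻¹) ∈ Subgroup.closure _
      have e : σ l (x * (σ q x)⁻¹) = σ l x * (σ (l * q * l⁻¹) (σ l x))⁻¹ := by
        rw [map_mul, map_inv]
        congr 2
        rw [← MulAut.mul_apply, ← MulAut.mul_apply, ← map_mul, ← map_mul]
        congr 2
        group
      rw [e]
      exact Subgroup.subset_closure ⟨σ l x, l * q * l⁻¹, hA.LQ l hl q hq, rfl⟩
    exact fun x hx => hle hx
  -- `V ≤ Tb`
  have hVT : V ≤ Tb := by
    rw [hV, Subgroup.closure_le]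
    rintro c ⟨x, q, hq, rfl⟩
    have hx : x ∈ Lb ⊔ Tb := by rw [hA.LT]; exact Subgroup.mem_top x
    have := hLb_normal
    have hx' : x ∈ (Lb : Set X) * (Tb : Set X) := by
      rw [← Subgroup.normal_mul]; exact hx
    obtain ⟨l, hl, t, ht', rfl⟩ := Set.mem_mul.mp hx'
    have hql : σ q l = l := hA.QL hpX q hq l hl
    have hlZ : ∀ a : X, l * a = a * l := fun a => (Subgroup.mem_center_iff.mp (hLbZ hl) a).symm
    have e : l * t * (σ q (l * t))⁻¹ = t * (σ q t)⁻¹ := by
      rw [map_mul, hql, mul_inv_rev, mul_assoc l t, hlZ (t * _), mul_assoc]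
      rw [mul_assoc, inv_mul_cancel, mul_one]
    rw [SetLike.mem_coe, e]
    exact Tb.mul_mem ht' (Tb.inv_mem (hA.Tinv q (hA.QS hq) t ht'))
  -- `V = ⊤`
  have hVtop : V = ⊤ := by
    by_contra hVne
    have hVL : V ≤ Lb := (hA.key V hVnormal hVinv hVne).2
    apply hA.nc
    intro q hq x
    set c : X := x * (σ q x)⁻¹ with hc
    have hcV : c ∈ V := Subgroup.subset_closure ⟨x, q, hq, rfl⟩
    have hqc : σ q c = c := hA.QL hpX q hq c (hVL hcV)
    have hqx : σ q x = c⁻¹ * x := by rw [hc]; group
    have hpow : ∀ n : ℕ, σ (q ^ n) x = c⁻¹ ^ n * x := by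
      intro n
      induction n with
      | zero => simp
      | succ n ih =>
        rw [pow_succ', map_mul, MulAut.mul_apply, ih, map_mul, map_pow, map_inv, hqc, hqx,
          pow_succ, mul_assoc]
    obtain ⟨k, hk⟩ := hA.pS ⟨q, hA.QS hq⟩
    have hk' : q ^ p ^ k = 1 := by
      have := congrArg Subtype.val hk
      simpa using this
    have h1 := hpow (p ^ k)
    rw [hk', map_one, MulAut.one_apply] at h1
    have hc1 : c⁻¹ ^ p ^ k = 1 := by
      have := congrArg (fun z => z * x⁻¹) h1
      simp only [mul_inv_cancel, mul_assoc, mul_one] at this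
      exact this.symm
    have hc2 : c⁻¹ ^ Nat.card X = 1 := pow_card_eq_one'
    have hcop : Nat.Coprime (p ^ k) (Nat.card X) :=
      Nat.Coprime.pow_left k ((Nat.Prime.coprime_iff_not_dvd hp.out).mpr hpX)
    have hg : c⁻¹ ^ Nat.gcd (p ^ k) (Nat.card X) = 1 := pow_gcd_eq_one.mpr ⟨hc1, hc2⟩
    rw [hcop, pow_one] at hg
    have hc0 : c = 1 := inv_eq_one.mp hg
    rw [hqx, hc0]; simp
  refine ⟨?_, ht, hclass⟩
  rw [← top_le_iff, ← hVtop]
  exact hVT

end Cfsg.Agent.Lib.Helper67.Iso
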